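import Cfsg.Agent.KFacts.MM.InvM22
import Cfsg.Agent.J4Type.Aut22

-- merged: Cfsg.Agent.KFacts.MM.InvOut
section

/-!
# The involutions of `D22 = M22:2` outside `M22`

`inv_out`: an involution of `D22` outside `M22` is conjugate under `M22` to the involution packed in `bP` (type
`1^8 2^8`) or in `cP` (type `2^12`).
-/

set_option autoImplicit false

namespace Cfsg.Agent.KFacts.MM.InvOut

open Cfsg Cfsg.Agent.SporadicA.GolayBase Cfsg.Agent.SporadicA.GolayPerm
open Cfsg.Agent.SporadicStructure.M24El Cfsg.Agent.J4Type.Aut22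

/-- the outer involution of type `1^8 2^8` -/
def bP : ℕ := 1914911924472243136386796373820119

/-- the outer involution of type `2^12` -/
def cP : ℕ := 2808583293512710820028439172831447

/-- conjugates `bP` to `P1` -/
def gB : ℕ := 13611335312783174011501912370040194

/-- conjugates `cP` to `P2` -/
def gC : ℕ := 13068822485206276655119513267290345

/-- elements commuting with `P1` -/
def hB : List ℕ := [
  984818244535754528103549039458486304,
  970538992418718774876113737513730146,
  362553560939886452458423999101196399,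
  726274566604616959877276909464296072,
  402854394882367549375522275057576108,
  395230050926030335011804381491844141,
  975099167367143997163366438976733835,
  426459968842163354966003995949380757,
  797117087383379987268938402487219381,
  626529360229392337751241354014826598,
  722599214209702036400997348453505263,
  91418665656170596029373900940041681,
  428005751152569428841304981052113483,
  517954811042232104866764635160753269,
  789642024137996312745770922860303405,
  8219904618265178018076044327765047]

/-- elements commuting with `P2` -/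
def hC : List ℕ := [
  984818244535754528103549039458486304,
  845562451063237962141214594532844545,
  430289677500563459901050217871147303,
  215523871887267654656452078338069155,
  632823936864421362313402385466576452,
  560899977264012701353748373599604293,
  729770052312259887028432911302152869,
  648165856980067828296190326473793639,
  216821814841571607943162603773418893,
  307063742377302892088443783070518537,
  317448172600573089658662660941910186,
  894023391476413076539280837281681579,
  375898311782299089124720176526499952,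
  891427435103578941198294460303741101,
  419865819865328127076742742516308213,
  722021470091843795583957749464470671,
  546621653344898351491873544087443696,
  344531599915761785167087668833638031,
  187005441136687628521564002233800338,
  423798424789463348983954760474448562,
  809066245619727178530535045698986100,
  802221438777449412053025386908037858,
  83246204287815833858999822285745591,
  4688664803823436492535327677919974]

/-- the tests for the tables -/
def row (P i h : ℕ) : Bool := ok h && El.weq [h, P] [P, h] && Nat.beq (papp h i) 0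

def chk (P rep g0 : ℕ) (H : List ℕ) : Bool :=
  (El.pts.all fun i => Nat.beq (papp P i) i || H.any (row P i)) &&
    (ok P && ok rep && ok g0 && Nat.beq (papp g0 23) 0 && Nat.beq (papp g0 0) (papp P 0) &&
      El.weq [P, g0] [g0, rep])

theorem chk1 : chk J4.M24InvolData.P1 bP gB hB = true := by decide +kernel

theorem chk2 : chk J4.M24InvolData.P2 cP gC hC = true := by decide +kernel

theorem okl_two {A B : ℕ} (hA : ok A = true) (hB : ok B = true) : El.okl [A, B] = true := by
  unfold El.okl
  rw [List.all_cons, List.all_cons, List.all_nil, InvM22.isPerm_of_ok hA, InvM22.isPerm_of_ok hB]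
  rfl

theorem pm_of_weq {A B C D : ℕ} (hA : ok A = true) (hB : ok B = true) (hC : ok C = true)
    (hD : ok D = true) (h : El.weq [A, B] [C, D] = true) :
    El.pm A * El.pm B = El.pm C * El.pm D := by
  have h3 := El.pr_of_weq (okl_two hA hB) (okl_two hC hD) h
  rwa [El.pr_cons, El.pr_one, El.pr_cons, El.pr_one] at h3

theorem pm_pt {P : ℕ} (h : ok P = true) {i : ℕ} (hi : i < 24) : El.pm P (pt i) = pt (papp P i) := by
  rw [← El.pt_val, El.val_pm (InvM22.isPerm_of_ok h) hi]

theorem pt_23 : pt 23 = (none : GolayPt) := rfl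

theorem pt_0 : pt 0 = (some 0 : GolayPt) := by
  unfold pt
  simp

/-- the conjugation step -/
theorem conj_step {P rep g0 : ℕ} {H : List ℕ} (hc : chk P rep g0 H = true)
    {u g : Equiv.Perm GolayPt} (hg : g ∈ M24) (e : g * u * g⁻¹ = El.pm P)
    (hu : u none = some 0) : ∃ m ∈ Spor.M22, u = m * El.pm rep * m⁻¹ := by
  unfold chk at hc
  rw [Bool.and_eq_true, Bool.and_eq_true, Bool.and_eq_true, Bool.and_eq_true, Bool.and_eq_true,
    Bool.and_eq_true, Nat.beq_eq, Nat.beq_eq, List.all_eq_true] at hc
  obtain ⟨hrow, ⟨⟨⟨⟨hP, hrep⟩, hg0⟩, h23⟩, h0⟩, hw⟩ := hc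
  have hw' := pm_of_weq hP hg0 hg0 hrep hw
  -- `P` moves `g none`
  have hPg : El.pm P (g none) = g (some 0) := by
    rw [← e, ← hu]
    show g (u (g⁻¹ (g none))) = g (u none)
    rw [show g⁻¹ (g none) = none from g.symm_apply_apply _]
  have hlt := idx_lt (g none)
  have hPg' : pt (papp P (idx (g none))) = g (some 0) := by
    rw [← pm_pt hP hlt, pt_idx, hPg]
  have h4 := hrow _ (El.mem_pts hlt)
  have h5 : Nat.beq (papp P (idx (g none))) (idx (g none)) = false := by
    rw [Bool.eq_false_iff]
    intro h
    have h6 := Nat.eq_of_beq_eq_true h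
    rw [h6, pt_idx] at hPg'
    have h7 := g.injective hPg'
    cases h7
  rw [h5, Bool.false_or, List.any_eq_true] at h4
  obtain ⟨h, -, hh⟩ := h4
  unfold row at hh
  rw [Bool.and_eq_true, Bool.and_eq_true, Nat.beq_eq] at hh
  obtain ⟨⟨hok, hhw⟩, hv⟩ := hh
  have hcomm := pm_of_weq hok hP hP hok hhw
  have e1 : El.pm h (g none) = pt 0 := by
    rw [← pt_idx (g none), pm_pt hok hlt, hv]
  have e2 : El.pm h (g (some 0)) = pt (papp P 0) := by
    rw [← hPg]
    show (El.pm h * El.pm P) (g none) = _
    rw [hcomm]
    show El.pm P (El.pm h (g none)) = _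
    rw [e1, pm_pt hP (by norm_num)]
  have e3 : El.pm g0 none = pt 0 := by
    rw [← pt_23, pm_pt hg0 (by norm_num), h23]
  have e4 : El.pm g0 (some 0) = pt (papp P 0) := by
    rw [← pt_0, pm_pt hg0 (by norm_num), h0]
  refine ⟨g⁻¹ * (El.pm h)⁻¹ * El.pm g0, ⟨⟨M24.mul_mem (M24.mul_mem (M24.inv_mem hg)
    (M24.inv_mem (InvM22.pm_mem hok))) (InvM22.pm_mem hg0), ?_⟩, ?_⟩, ?_⟩
  · show g⁻¹ ((El.pm h)⁻¹ (El.pm g0 none)) = none
    rw [e3, ← e1, show (El.pm h)⁻¹ (El.pm h (g none)) = g none from (El.pm h).symm_apply_apply _]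
    exact g.symm_apply_apply _
  · show g⁻¹ ((El.pm h)⁻¹ (El.pm g0 (some 0))) = some 0
    rw [e4, ← e2, show (El.pm h)⁻¹ (El.pm h (g (some 0))) = g (some 0) from
      (El.pm h).symm_apply_apply _]
    exact g.symm_apply_apply _
  · have h8 : g⁻¹ * (El.pm h)⁻¹ * El.pm g0 * El.pm rep * (g⁻¹ * (El.pm h)⁻¹ * El.pm g0)⁻¹ =
        g⁻¹ * (El.pm h)⁻¹ * (El.pm g0 * El.pm rep) * (El.pm g0)⁻¹ * El.pm h * g := by group
    rw [h8, ← hw']
    have h9 : g⁻¹ * (El.pm h)⁻¹ * (El.pm P * El.pm g0) * (El.pm g0)⁻¹ * El.pm h * g =
        g⁻¹ * (El.pm h)⁻¹ * (El.pm P * El.pm h) * g := by group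
    rw [h9, ← hcomm]
    have h10 : g⁻¹ * (El.pm h)⁻¹ * (El.pm h * El.pm P) * g = g⁻¹ * El.pm P * g := by group
    rw [h10, ← e]
    group

theorem ok_b : ok bP = true := by decide +kernel

theorem ok_c : ok cP = true := by decide +kernel

/-- **(M2)** -/
theorem inv_out {u : Equiv.Perm GolayPt} (hu : u ∈ D22) (hu' : u ∉ Spor.M22) (h2 : u * u = 1) :
    ∃ m ∈ Spor.M22, u = m * El.pm bP * m⁻¹ ∨ u = m * El.pm cP * m⁻¹ := by
  have h3 := (mem_D22_iff u).1 hu
  have h4 : u none = some 0 := by
    rcases h3.2 with h | h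
    · exact absurd ((Cfsg.Agent.SporadicA.MathieuRecog.mem_M22_iff u).2 ⟨h3.1, h⟩) hu'
    · exact h.1
  have h1 : u ≠ 1 := fun h => by
    rw [h, Equiv.Perm.one_apply] at h4
    cases h4
  obtain ⟨g, hg | hg⟩ := J4.M24Invol.invol_conj ⟨u, h3.1⟩ (Subtype.ext h2)
    (fun e => h1 (congrArg Subtype.val e))
  · have hg' : (g : Equiv.Perm GolayPt) * u * (g : Equiv.Perm GolayPt)⁻¹ =
        ((el J4.M24InvolData.P1 : M24) : Equiv.Perm GolayPt) := congrArg Subtype.val hg
    rw [El.coe_el J4.M24Invol.ok_P1] at hg'
    obtain ⟨m, hm, e⟩ := conj_step chk1 g.2 hg' h4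
    exact ⟨m, hm, Or.inl e⟩
  · have hg' : (g : Equiv.Perm GolayPt) * u * (g : Equiv.Perm GolayPt)⁻¹ =
        ((el J4.M24InvolData.P2 : M24) : Equiv.Perm GolayPt) := congrArg Subtype.val hg
    rw [El.coe_el J4.M24Invol.ok_P2] at hg'
    obtain ⟨m, hm, e⟩ := conj_step chk2 g.2 hg' h4
    exact ⟨m, hm, Or.inr e⟩

end Cfsg.Agent.KFacts.MM.InvOut

end

-- merged: Cfsg.Agent.OddHalf.D4.M22.CenCert
section

/-!
# Centralisers in `M24` of a list of packed permutations: certificates

`cen_of_cert`: an element of `M24` commuting with the permutations packed in `D` (and with admissible values at the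
roots) is one of the elements packed in `good`.
-/

set_option autoImplicit false

namespace Cfsg.Agent.OddHalf.D4.M22.CenCert

open Cfsg Cfsg.Agent.SporadicA.GolayBase Cfsg.Agent.SporadicA.GolayPerm
open Cfsg.Agent.SporadicStructure.M24El Cfsg.Agent.KFacts.MM

/-- the word in the elements of `D` -/
def wd (D : List ℕ) (w : List ℕ) : List ℕ := w.map fun k => D.getD k idP

theorem okl_wd {D : List ℕ} (hD : ∀ P ∈ D, ok P = true) (w : List ℕ) : El.okl (wd D w) = true := by
  unfold El.okl wd
  rw [List.all_eq_true]
  intro x hx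
  obtain ⟨k, -, rfl⟩ := List.mem_map.1 hx
  exact InvM22.isPerm_of_ok (ok_getD hD k)

theorem pm_idP : El.pm idP = 1 := by
  apply El.ext_val
  intro i hi
  rw [El.val_pm (InvM22.isPerm_of_ok ok_idP) hi, El.val_one hi]
  have h : (El.pts.all fun i => Nat.beq (papp idP i) i) = true := by decide +kernel
  rw [List.all_eq_true] at h
  exact Nat.eq_of_beq_eq_true (h i (El.mem_pts hi))

theorem comm_wd {D : List ℕ} {g : Equiv.Perm GolayPt} (hc : ∀ P ∈ D, g * El.pm P = El.pm P * g)
    (w : List ℕ) : g * El.pr (wd D w) = El.pr (wd D w) * g := by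
  induction w with
  | nil => simp [wd, El.pr_nil]
  | cons k w ih =>
    have h1 : wd D (k :: w) = D.getD k idP :: wd D w := rfl
    have h2 : g * El.pm (D.getD k idP) = El.pm (D.getD k idP) * g := by
      rw [List.getD_eq_getElem?_getD]
      rcases hk : D[k]? with _ | P
      · rw [Option.getD_none, pm_idP, mul_one, one_mul]
      · exact hc P (List.mem_of_getElem? hk)
    rw [h1, El.pr_cons, ← mul_assoc, h2, mul_assoc, ih, mul_assoc]

theorem val_wd {D : List ℕ} (hD : ∀ P ∈ D, ok P = true) {g : Equiv.Perm GolayPt}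
    (hc : ∀ P ∈ D, g * El.pm P = El.pm P * g) (w : List ℕ) {i : ℕ} (hi : i < 24) :
    El.val g (El.ev (wd D w) i) = El.ev (wd D w) (El.val g i) := by
  rw [← El.val_pr (okl_wd hD w) hi, ← El.val_pr (okl_wd hD w) (El.val_lt g i), ← El.val_mul,
    ← El.val_mul, comm_wd hc w]

/-- all choices -/
def combos : List (List ℕ) → List (List ℕ)
  | [] => [[]]
  | l :: L => l.flatMap fun a => (combos L).map fun c => a :: c

theorem mem_combos {c : List ℕ} {L : List (List ℕ)} (h : List.Forall₂ (fun a l => a ∈ l) c L) :
    c ∈ combos L := by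
  induction h with
  | nil => exact List.mem_singleton.2 rfl
  | cons h1 _ ih =>
    exact List.mem_flatMap.2 ⟨_, h1, List.mem_map.2 ⟨_, ih, rfl⟩⟩

/-- a root: its index, the candidates for its image, the words excluding the others -/
abbrev Root := ℕ × List ℕ × List (List ℕ)

/-- the candidates of the roots are complete -/
def chk1 (D : List ℕ) (adm : ℕ → ℕ → Bool) (roots : List Root) : Bool :=
  roots.all fun r => Nat.blt r.1 24 && El.pts.all fun a => !(adm r.1 a) || r.2.1.contains a ||
    r.2.2.any fun w => Nat.beq (El.ev (wd D w) r.1) r.1 && !(Nat.beq (El.ev (wd D w) a) a)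

/-- the tree -/
def chk2 (D : List ℕ) (roots : List Root) (T : List (ℕ × List ℕ)) : Bool :=
  Nat.beq T.length 24 && El.pts.all fun i => Nat.blt (T.getD i (0, [])).1 roots.length &&
    Nat.beq (El.ev (wd D (T.getD i (0, [])).2) (roots.getD (T.getD i (0, [])).1 (0, [], [])).1) i

/-- the packed table of values -/
def mk (D : List ℕ) (T : List (ℕ × List ℕ)) (c : List ℕ) : ℕ :=
  pack (T.map fun t => El.ev (wd D t.2) (c.getD t.1 0))

/-- the choices -/
def chk3 (D : List ℕ) (roots : List Root) (T : List (ℕ × List ℕ)) (good : List ℕ) : Bool :=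
  (combos (roots.map fun r => r.2.1)).all fun c => !(ok (mk D T c)) || good.contains (mk D T c)

def chk (D : List ℕ) (adm : ℕ → ℕ → Bool) (roots : List Root) (T : List (ℕ × List ℕ))
    (good : List ℕ) : Bool :=
  D.all ok && chk1 D adm roots && chk2 D roots T && chk3 D roots T good

theorem cen_of_cert {D : List ℕ} {adm : ℕ → ℕ → Bool} {roots : List Root} {T : List (ℕ × List ℕ)}
    {good : List ℕ} (h : chk D adm roots T good = true) {g : Equiv.Perm GolayPt} (hg : g ∈ M24)
    (hadm : ∀ j < 24, adm j (El.val g j) = true) (hc : ∀ P ∈ D, g * El.pm P = El.pm P * g) :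
    ∃ Q ∈ good, g = El.pm Q := by
  unfold chk at h
  rw [Bool.and_eq_true, Bool.and_eq_true, Bool.and_eq_true, List.all_eq_true] at h
  obtain ⟨⟨⟨hD, h1⟩, h2⟩, h3⟩ := h
  unfold chk2 at h2
  rw [Bool.and_eq_true, Nat.beq_eq, List.all_eq_true] at h2
  obtain ⟨hlen, h2⟩ := h2
  unfold chk1 at h1
  rw [List.all_eq_true] at h1
  -- the values at the roots
  have hroot : ∀ r ∈ roots, El.val g r.1 ∈ r.2.1 := by
    intro r hr
    have h4 := h1 r hr
    rw [Bool.and_eq_true, List.all_eq_true] at h4
    obtain ⟨hlt, h4⟩ := h4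
    have hlt' : r.1 < 24 := by
      have : Nat.blt r.1 24 = true := hlt
      rw [Nat.blt_eq] at this
      exact this
    have h5 := h4 _ (El.mem_pts (El.val_lt g r.1))
    rw [hadm r.1 hlt', Bool.not_true, Bool.false_or, Bool.or_eq_true] at h5
    rcases h5 with h5 | h5
    · exact List.contains_iff_mem.1 h5
    · exfalso
      rw [List.any_eq_true] at h5
      obtain ⟨w, -, hw⟩ := h5
      rw [Bool.and_eq_true, Nat.beq_eq, Bool.not_eq_true'] at hw
      obtain ⟨hw1, hw2⟩ := hw
      have h6 := val_wd hD hc w hlt'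
      rw [hw1] at h6
      rw [← h6, Nat.beq_refl] at hw2
      cases hw2
  have hcomb : (roots.map fun r => El.val g r.1) ∈ combos (roots.map fun r => r.2.1) := by
    apply mem_combos
    rw [List.forall₂_map_left_iff, List.forall₂_map_right_iff, List.forall₂_same]
    exact hroot
  unfold chk3 at h3
  rw [List.all_eq_true] at h3
  have h4 := h3 _ hcomb
  -- the values
  have hget : ∀ {k : ℕ}, k < roots.length →
      (roots.map fun r => El.val g r.1).getD k 0 = El.val g (roots.getD k (0, [], [])).1 := by
    intro k hk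
    rw [List.getD_eq_getElem?_getD, List.getD_eq_getElem?_getD, List.getElem?_map,
      List.getElem?_eq_getElem hk]
    rfl
  have hrlt : ∀ {k : ℕ}, k < roots.length → (roots.getD k (0, [], [])).1 < 24 := by
    intro k hk
    rw [List.getD_eq_getElem?_getD, List.getElem?_eq_getElem hk, Option.getD_some]
    have h4 := h1 _ (List.getElem_mem hk)
    rw [Bool.and_eq_true] at h4
    have : Nat.blt (roots[k]).1 24 = true := h4.1
    rw [Nat.blt_eq] at this
    exact this
  set c := roots.map fun r => El.val g r.1 with hcdef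
  set l := T.map fun t => El.ev (wd D t.2) (c.getD t.1 0) with hl
  have hTi : ∀ i < 24, l.getD i 0 = El.val g i := by
    intro i hi
    have hiT : i < T.length := by rw [hlen]; exact hi
    have h5 := h2 i (El.mem_pts hi)
    rw [Bool.and_eq_true, Nat.beq_eq] at h5
    obtain ⟨h5, h6⟩ := h5
    have h5' : (T.getD i (0, [])).1 < roots.length := by
      have : Nat.blt (T.getD i (0, [])).1 roots.length = true := h5
      rw [Nat.blt_eq] at this
      exact this
    have h7 : T.getD i (0, []) = T[i] := by
      rw [List.getD_eq_getElem?_getD, List.getElem?_eq_getElem hiT, Option.getD_some]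
    have h8 : l.getD i 0 = El.ev (wd D (T.getD i (0, [])).2) (c.getD (T.getD i (0, [])).1 0) := by
      rw [hl, List.getD_eq_getElem?_getD, List.getElem?_map, List.getElem?_eq_getElem hiT, h7]
      rfl
    rw [h8, hget h5', ← val_wd hD hc _ (hrlt h5'), h6]
  have hall : ∀ a ∈ l, a < 32 := by
    intro a ha
    obtain ⟨i, hi, rfl⟩ := List.mem_iff_getElem.1 ha
    have hi' : i < 24 := by
      rw [← hlen]
      rw [hl, List.length_map] at hi
      exact hi
    have h5 := hTi i hi'
    rw [List.getD_eq_getElem?_getD, List.getElem?_eq_getElem hi, Option.getD_some] at h5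
    rw [h5]
    exact lt_trans (El.val_lt g i) (by norm_num)
  have hpapp : ∀ i < 24, papp (mk D T c) i = El.val g i := by
    intro i hi
    have : mk D T c = pack l := rfl
    rw [this, papp_pack hall, hTi i hi]
  have hperm : isPerm (mk D T c) = true := by
    apply isPerm_of_injOn
    · intro i hi
      rw [hpapp i hi]
      exact El.val_lt g i
    · intro i j hi hj hij
      rw [hpapp i hi, hpapp j hj] at hij
      exact El.val_inj hi hj hij
  have hpm : g = El.pm (mk D T c) := by
    apply El.ext_val
    intro i hi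
    rw [El.val_pm hperm hi, hpapp i hi]
  have hok : ok (mk D T c) = true := by
    rw [ok_iff]
    refine ⟨hperm, isAut_of_mem_M24 hperm ?_⟩
    rw [← El.pm_eq hperm, ← hpm]
    exact hg
  rw [hok, Bool.not_true, Bool.false_or] at h4
  exact ⟨_, List.contains_iff_mem.1 h4, hpm⟩

end Cfsg.Agent.OddHalf.D4.M22.CenCert

end
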